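import Groth.Agent.PerfLib.RelFrob
import Mathlib.RingTheory.Unramified.Finite
import Mathlib.RingTheory.Etale.Basic
import Mathlib.Algebra.Algebra.Epi

/-! # Étale algebras and Frobenius -/

namespace Groth.Agent.PerfEtale

open TensorProduct

universe u

variable {p : ℕ} [hp : Fact p.Prime]

/-- A formally unramified algebra of finite type in which all `p`-th powers come from the base is a
quotient of the base. -/
theorem surjective_of_pow_mem {D C : Type u} [CommRing D] [CommRing C] [Algebra D C]
    (hp0 : (p : C) = 0) [Algebra.FormallyUnramified D C] [Algebra.FiniteType D C]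
    (h : ∀ x : C, ∃ d, algebraMap D C d = x ^ p) : Function.Surjective (algebraMap D C) := by
  have hint : Algebra.IsIntegral D C := ⟨fun x => IsIntegral.of_pow hp.out.pos <| by
    obtain ⟨d, hd⟩ := h x
    rw [← hd]
    exact isIntegral_algebraMap⟩
  have : Module.Finite D C := Algebra.IsIntegral.finite
  rw [← Algebra.isEpi_iff_surjective_algebraMap_of_finite, Algebra.isEpi_iff_forall_one_tmul_eq]
  have hp0' : (p : C ⊗[D] C) = 0 := by
    rw [← map_natCast (Algebra.TensorProduct.includeLeft : C →ₐ[D] C ⊗[D] C), hp0, map_zero]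
  have hpow : ∀ z : C ⊗[D] C, z ^ p = ((Algebra.TensorProduct.lmul' D z) ^ p) ⊗ₜ[D] (1 : C) := by
    intro z
    induction z using TensorProduct.induction_on with
    | zero => rw [map_zero, zero_pow hp.out.ne_zero, zero_pow hp.out.ne_zero, TensorProduct.zero_tmul]
    | tmul a b =>
      obtain ⟨d, hd⟩ := h b
      rw [Algebra.TensorProduct.lmul'_apply_tmul, Algebra.TensorProduct.tmul_pow, ← hd,
        Algebra.algebraMap_eq_smul_one, ← TensorProduct.smul_tmul, mul_pow, ← hd, mul_comm,
        ← Algebra.smul_def]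
    | add x y hx hy =>
      rw [PerfLib.frob_add hp0', hx, hy, map_add, PerfLib.frob_add hp0, TensorProduct.add_tmul]
  obtain ⟨e, he, he1⟩ := Algebra.FormallyUnramified.iff_exists_tensorProduct.1
    (inferInstance : Algebra.FormallyUnramified D C)
  have hu : IsUnit e := by
    have hn : IsNilpotent (1 - e) := ⟨p, by
      rw [hpow, map_sub, map_one, he1, sub_self, zero_pow hp.out.ne_zero, TensorProduct.zero_tmul]⟩
    simpa using IsNilpotent.isUnit_one_sub hn
  intro a
  have := he a
  rw [hu.mul_left_eq_zero, sub_eq_zero] at this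
  exact this

/-- Frobenius is surjective on a formally unramified algebra of finite type over a ring on which it
is surjective. -/
theorem exists_pow_eq {A C : Type u} [CommRing A] [CommRing C] [Algebra A C]
    (hA : ∀ a : A, ∃ b, b ^ p = a) (hp0 : (p : C) = 0) [Algebra.FormallyUnramified A C]
    [Algebra.FiniteType A C] (x : C) : ∃ y : C, y ^ p = x := by
  let D : Subalgebra A C :=
    { carrier := {z | ∃ y, y ^ p = z}
      mul_mem' := by rintro _ _ ⟨y, rfl⟩ ⟨z, rfl⟩; exact ⟨y * z, mul_pow _ _ _⟩
      one_mem' := ⟨1, one_pow _⟩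
      add_mem' := by rintro _ _ ⟨y, rfl⟩ ⟨z, rfl⟩; exact ⟨y + z, PerfLib.frob_add hp0 _ _⟩
      zero_mem' := ⟨0, zero_pow hp.out.ne_zero⟩
      algebraMap_mem' := fun a => by
        obtain ⟨b, rfl⟩ := hA a
        exact ⟨algebraMap A C b, (map_pow _ _ _).symm⟩ }
  have : Algebra.FormallyUnramified D C := .of_restrictScalars A D C
  have : Algebra.FiniteType D C := .of_restrictScalars_finiteType A D C
  obtain ⟨d, rfl⟩ := surjective_of_pow_mem (D := D) hp0 (fun z => ⟨⟨z ^ p, z, rfl⟩, rfl⟩) x
  exact d.2

end Groth.Agent.PerfEtale
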